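import Mathlib.RingTheory.Kaehler.Basic
import Mathlib.Algebra.Algebra.Bilinear
import Mathlib.LinearAlgebra.TensorProduct.Associator
import Mathlib.Algebra.CharP.Algebra

/-! Exactness at the last places of the diagonal resolution of the symmetric cube. -/

namespace Groth.Agent.DiagRes

open scoped TensorProduct

universe u v

variable (k : Type u) [Field k] (A : Type v) [CommRing A] [Algebra k A]

/-- `ab ⊗ c + bc ⊗ a + ca ⊗ b`. -/
noncomputable def cyc (a b c : A) : A ⊗[k] A :=
  (a * b) ⊗ₜ[k] c + (b * c) ⊗ₜ[k] a + (c * a) ⊗ₜ[k] b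

noncomputable def cycSpan : Submodule k (A ⊗[k] A) :=
  Submodule.span k (Set.range fun p : A × A × A => cyc k A p.1 p.2.1 p.2.2)

noncomputable def pre : A →ₗ[k] A →ₗ[k] (A ⊗[k] A) ⧸ cycSpan k A :=
  LinearMap.mk₂ k
    (fun a b => (cycSpan k A).mkQ ((3 : k)⁻¹ • ((2 : k) • (a ⊗ₜ[k] b) + b ⊗ₜ[k] a)))
    (fun a a' b => by
      rw [← map_add, TensorProduct.add_tmul, TensorProduct.tmul_add]; congr 1; module)
    (fun c a b => by
      rw [← map_smul, ← TensorProduct.smul_tmul', TensorProduct.tmul_smul]; congr 1; module)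
    (fun a b b' => by
      rw [← map_add, TensorProduct.add_tmul, TensorProduct.tmul_add]; congr 1; module)
    (fun c a b => by
      rw [← map_smul, ← TensorProduct.smul_tmul', TensorProduct.tmul_smul]; congr 1; module)

theorem pre_apply (a b : A) :
    pre k A a b = (cycSpan k A).mkQ ((3 : k)⁻¹ • ((2 : k) • (a ⊗ₜ[k] b) + b ⊗ₜ[k] a)) := rfl

theorem pre_mul (a b c : A) :
    pre k A a (b * c) = pre k A (a * b) c + pre k A (a * c) b := by
  rw [pre_apply, pre_apply, pre_apply, ← map_add, Submodule.mkQ_apply, Submodule.mkQ_apply,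
    Submodule.Quotient.eq, ← smul_add, ← smul_sub]
  refine Submodule.smul_mem _ _ ?_
  have e : (2 : k) • (a ⊗ₜ[k] (b * c)) + (b * c) ⊗ₜ[k] a
      - ((2 : k) • ((a * b) ⊗ₜ[k] c) + c ⊗ₜ[k] (a * b)
        + ((2 : k) • ((a * c) ⊗ₜ[k] b) + b ⊗ₜ[k] (a * c)))
      = ((2 : k) • cyc k A a (b * c) 1 - cyc k A (a * b) c 1 - cyc k A (a * c) b 1)
        - cyc k A a b c := by
    simp only [cyc, one_mul, mul_one, mul_assoc, mul_comm c a, mul_left_comm, mul_comm, two_smul]
    abel
  rw [e]
  have hm : ∀ x y w, cyc k A x y w ∈ cycSpan k A :=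
    fun x y w => Submodule.subset_span ⟨(x, y, w), rfl⟩
  exact sub_mem (sub_mem (sub_mem (Submodule.smul_mem _ _ (hm _ _ _)) (hm _ _ _)) (hm _ _ _))
    (hm _ _ _)

/-- `A` acts on `Hom_k(A, Q)` through the source. -/
def HomMod : Type _ := A →ₗ[k] (A ⊗[k] A) ⧸ cycSpan k A

noncomputable instance : AddCommGroup (HomMod k A) :=
  inferInstanceAs (AddCommGroup (A →ₗ[k] (A ⊗[k] A) ⧸ cycSpan k A))

noncomputable instance : Module k (HomMod k A) :=
  inferInstanceAs (Module k (A →ₗ[k] (A ⊗[k] A) ⧸ cycSpan k A))

variable {k A} in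
/-- The underlying linear map. -/
noncomputable def HomMod.toMap : HomMod k A →ₗ[k] A →ₗ[k] (A ⊗[k] A) ⧸ cycSpan k A := LinearMap.id

variable {k A} in
@[ext] theorem HomMod.ext {φ ψ : HomMod k A} (h : ∀ x, φ.toMap x = ψ.toMap x) : φ = ψ :=
  LinearMap.ext (f := φ.toMap) (g := ψ.toMap) h

noncomputable instance : SMul A (HomMod k A) := ⟨fun c φ => φ.toMap.comp (LinearMap.mulLeft k c)⟩

variable {k A} in
theorem HomMod.smul_apply (c : A) (φ : HomMod k A) (x : A) :
    (c • φ).toMap x = φ.toMap (c * x) := rfl

noncomputable instance : Module A (HomMod k A) where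
  one_smul φ := HomMod.ext fun x => by rw [HomMod.smul_apply, one_mul]
  mul_smul c d φ := HomMod.ext fun x => by
    rw [HomMod.smul_apply, HomMod.smul_apply, HomMod.smul_apply, mul_comm c d, mul_assoc]
  smul_zero c := HomMod.ext fun x => by simp [HomMod.smul_apply]
  smul_add c φ ψ := HomMod.ext fun x => by simp [HomMod.smul_apply]
  add_smul c d φ := HomMod.ext fun x => by simp [HomMod.smul_apply, add_mul]
  zero_smul φ := HomMod.ext fun x => by simp [HomMod.smul_apply]

instance : IsScalarTower k A (HomMod k A) :=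
  ⟨fun r c φ => HomMod.ext fun x => by
    simp [HomMod.smul_apply, smul_mul_assoc]⟩

noncomputable def homDer : Derivation k A (HomMod k A) :=
  Derivation.mk' ((pre k A).flip : A →ₗ[k] HomMod k A) fun b c => HomMod.ext fun a => by
    rw [map_add, LinearMap.add_apply, HomMod.smul_apply, HomMod.smul_apply]
    show pre k A a (b * c) = pre k A (b * a) c + pre k A (c * a) b
    rw [pre_mul, mul_comm b a, mul_comm c a]

theorem homDer_apply (a b : A) : (homDer k A b).toMap a = pre k A a b := rfl

/-- The inverse of `D` on the quotient. -/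
theorem ker_le [CharZero k] (D : A ⊗[k] A →ₗ[k] Ω[A⁄k])
    (hD : ∀ a b : A, D (a ⊗ₜ[k] b) =
      (2 : A) • (a • KaehlerDifferential.D k A b) - b • KaehlerDifferential.D k A a) :
    LinearMap.ker D ≤ cycSpan k A := by
  intro y hy
  have hL : ∀ b, (homDer k A).liftKaehlerDifferential (KaehlerDifferential.D k A b) = homDer k A b :=
    Derivation.liftKaehlerDifferential_comp_D _
  have key : ∀ y : A ⊗[k] A,
      ((homDer k A).liftKaehlerDifferential (D y)).toMap 1 = (cycSpan k A).mkQ y := by
    intro y
    induction y using TensorProduct.induction_on with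
    | zero => simp
    | tmul a b =>
      rw [hD, two_smul, map_sub, map_add, map_smul, map_smul, hL, hL, map_sub, map_add,
        LinearMap.sub_apply, LinearMap.add_apply, HomMod.smul_apply, HomMod.smul_apply,
        mul_one, mul_one, homDer_apply, homDer_apply, pre_apply, pre_apply, ← map_add, ← map_sub]
      congr 1
      match_scalars <;> field_simp <;> ring
    | add x y hx hy =>
      rw [map_add, map_add, map_add, map_add, LinearMap.add_apply, hx, hy]
  have h0 := key y
  rw [LinearMap.mem_ker.1 hy, map_zero, map_zero, LinearMap.zero_apply] at h0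
  exact (Submodule.Quotient.mk_eq_zero _).1 h0.symm

theorem mem_span_smul_D (ω : Ω[A⁄k]) :
    ω ∈ Submodule.span k (Set.range fun p : A × A => p.1 • KaehlerDifferential.D k A p.2) := by
  have h : ω ∈ Submodule.span A (Set.range (KaehlerDifferential.D k A)) := by
    rw [KaehlerDifferential.span_range_derivation]; trivial
  have key : ∀ c : A, c • ω ∈
      Submodule.span k (Set.range fun p : A × A => p.1 • KaehlerDifferential.D k A p.2) := by
    induction h using Submodule.span_induction with
    | mem x hx => obtain ⟨b, rfl⟩ := hx; exact fun c => Submodule.subset_span ⟨(c, b), rfl⟩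
    | zero => intro c; rw [smul_zero]; exact zero_mem _
    | add x y _ _ hx hy => intro c; rw [smul_add]; exact add_mem (hx c) (hy c)
    | smul d x _ hx => intro c; rw [smul_smul]; exact hx _
  simpa using key 1

end Groth.Agent.DiagRes
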